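import Mathlib.Data.List.Basic

/-!
The unipotent radical of a Borel subgroup of the stabiliser of a totally isotropic plane and a complement in
`SU₆(2)`: its 64 elements as words in four generators, the images of two basis vectors, and the multiplication by
the generators.
-/

set_option autoImplicit false

namespace CfsgLib.SchurMult.PSUSixTwo

/-- The elements as words. -/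
def unipW : List (List ℕ) :=
  [[], [0], [1], [2], [3], [0, 1], [0, 2], [0, 3], [1, 2], [1, 3], [2, 0], [2, 1], [2, 3], [3, 0], [3, 1], [0, 1, 2], [0, 1, 3], [0, 2, 0], [0, 2, 1], [0, 2, 3], [0, 3, 0], [0, 3, 1], [1, 2, 0], [1, 2, 1], [1, 2, 3], [1, 3, 0], [1, 3, 1], [2, 0, 1], [2, 0, 2], [2, 0, 3], [2, 1, 2], [2, 1, 3], [2, 3, 0], [2, 3, 1], [3, 0, 1], [3, 0, 2], [3, 0, 3], [3, 1, 2], [3, 1, 3], [0, 1, 2, 0], [0, 1, 2, 1], [0, 1, 2, 3], [0, 1, 3, 0], [0, 1, 3, 1], [0, 2, 0, 1], [0, 2, 0, 2], [0, 2, 0, 3], [0, 2, 1, 2], [0, 2, 1, 3], [0, 2, 3, 0], [0, 2, 3, 1], [0, 3, 0, 1], [0, 3, 0, 2], [0, 3, 0, 3], [0, 3, 1, 2], [0, 3, 1, 3], [1, 2, 0, 1], [1, 2, 0, 2], [1, 3, 0, 1], [1, 3, 1, 3], [0, 1, 2, 0, 1], [0, 1, 2, 0, 2], [0, 1, 3, 0,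 1], [0, 1, 3, 1, 3]]

/-- The images of two basis vectors. -/
def unipK : List (List ℕ) :=
  [[0, 0, 1, 1, 0, 0, 0, 0, 0, 0, 1, 1], [1, 1, 1, 1, 0, 0, 0, 0, 0, 0, 1, 1], [2, 2, 1, 1, 0, 0, 0, 0, 0, 0, 1, 1], [0, 0, 1, 1, 0, 0, 0, 0, 1, 1, 1, 1], [0, 0, 1, 1, 0, 0, 0, 0, 2, 2, 1, 1], [3, 3, 1, 1, 0, 0, 0, 0, 0, 0, 1, 1], [1, 1, 1, 1, 0, 0, 1, 1, 1, 1, 1, 1], [1, 1, 1, 1, 0, 0, 2, 2, 2, 2, 1, 1], [2, 2, 1, 1, 0, 0, 2, 2, 1, 1, 1, 1], [2, 2, 1, 1, 0, 0, 3, 3, 2, 2, 1, 1], [1, 1, 1, 1, 0, 0, 0, 0, 1, 1, 1, 1], [2, 2, 1, 1, 0, 0, 0, 0, 1, 1, 1, 1], [0, 0, 1, 1, 0, 0, 0, 0, 3, 3, 1, 1], [1, 1, 1, 1, 0, 0, 0, 0, 2, 2, 1, 1], [2, 2, 1, 1, 0, 0, 0, 0, 2, 2, 1, 1], [3, 3, 1, 1, 0, 0, 3, 3, 1, 1, 1, 1], [3, 3, 1, 1, 0, 0, 1, 1, 2, 2, 1, 1],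 [0, 0, 1, 1, 0, 0, 1, 1, 1, 1, 1, 1], [3, 3, 1, 1, 0, 0, 1, 1, 1, 1, 1, 1], [1, 1, 1, 1, 0, 0, 3, 3, 3, 3, 1, 1], [0, 0, 1, 1, 0, 0, 2, 2, 2, 2, 1, 1], [3, 3, 1, 1, 0, 0, 2, 2, 2, 2, 1, 1], [3, 3, 1, 1, 0, 0, 2, 2, 1, 1, 1, 1], [0, 0, 1, 1, 0, 0, 2, 2, 1, 1, 1, 1], [2, 2, 1, 1, 0, 0, 1, 1, 3, 3, 1, 1], [3, 3, 1, 1, 0, 0, 3, 3, 2, 2, 1, 1], [0, 0, 1, 1, 0, 0, 3, 3, 2, 2, 1, 1], [3, 3, 1, 1, 0, 0, 0, 0, 1, 1, 1, 1], [1, 1, 1, 1, 0, 0, 1, 1, 0, 0, 1, 1], [1, 1, 1, 1, 0, 0, 2, 2, 3, 3, 1, 1], [2, 2, 1, 1, 0, 0, 2, 2, 0, 0, 1, 1], [2, 2, 1, 1, 0, 0, 3, 3, 3, 3, 1, 1], [1, 1, 1, 1, 0, 0, 0, 0, 3, 3, 1, 1], [2, 2, 1, 1, 0, 0, 0, 0, 3, 3, 1, 1], [3, 3, 1, 1, 0, 0, 0, 0, 2, 2, 1, 1], [1, 1, 1, 1, 0, 0, 1, 1, 3, 3, 1, 1], [1, 1, 1, 1, 0, 0,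 2, 2, 0, 0, 1, 1], [2, 2, 1, 1, 0, 0, 2, 2, 3, 3, 1, 1], [2, 2, 1, 1, 0, 0, 3, 3, 0, 0, 1, 1], [2, 2, 1, 1, 0, 0, 3, 3, 1, 1, 1, 1], [1, 1, 1, 1, 0, 0, 3, 3, 1, 1, 1, 1], [3, 3, 1, 1, 0, 0, 2, 2, 3, 3, 1, 1], [2, 2, 1, 1, 0, 0, 1, 1, 2, 2, 1, 1], [1, 1, 1, 1, 0, 0, 1, 1, 2, 2, 1, 1], [2, 2, 1, 1, 0, 0, 1, 1, 1, 1, 1, 1], [0, 0, 1, 1, 0, 0, 1, 1, 0, 0, 1, 1], [0, 0, 1, 1, 0, 0, 1, 1, 3, 3, 1, 1], [3, 3, 1, 1, 0, 0, 2, 2, 0, 0, 1, 1], [3, 3, 1, 1, 0, 0, 0, 0, 3, 3, 1, 1], [0, 0, 1, 1, 0, 0, 3, 3, 3, 3, 1, 1], [3, 3, 1, 1, 0, 0, 3, 3, 3, 3, 1, 1], [2, 2, 1, 1, 0, 0, 2, 2, 2, 2, 1, 1], [0, 0, 1, 1, 0, 0, 2, 2, 3, 3, 1, 1], [0, 0, 1, 1, 0, 0, 2, 2, 0, 0, 1, 1], [3, 3, 1, 1, 0, 0, 1, 1, 3, 3, 1, 1], [3, 3, 1, 1, 0, 0, 3, 3, 0, 0, 1, 1],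 [1, 1, 1, 1, 0, 0, 2, 2, 1, 1, 1, 1], [3, 3, 1, 1, 0, 0, 1, 1, 0, 0, 1, 1], [1, 1, 1, 1, 0, 0, 3, 3, 2, 2, 1, 1], [0, 0, 1, 1, 0, 0, 3, 3, 0, 0, 1, 1], [0, 0, 1, 1, 0, 0, 3, 3, 1, 1, 1, 1], [2, 2, 1, 1, 0, 0, 1, 1, 0, 0, 1, 1], [0, 0, 1, 1, 0, 0, 1, 1, 2, 2, 1, 1], [1, 1, 1, 1, 0, 0, 3, 3, 0, 0, 1, 1]]

/-- Multiplication by the generators. -/
def unipT : List (List ℕ) :=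
  [[1, 2, 3, 4], [0, 5, 6, 7], [5, 0, 8, 9], [10, 11, 0, 12], [13, 14, 12, 0], [2, 1, 15, 16], [17, 18, 1, 19], [20, 21, 19, 1], [22, 23, 2, 24], [25, 26, 24, 2], [3, 27, 28, 29], [27, 3, 30, 31], [32, 33, 4, 3], [4, 34, 35, 36], [34, 4, 37, 38], [39, 40, 5, 41], [42, 43, 41, 5], [6, 44, 45, 46], [44, 6, 47, 48], [49, 50, 7, 6], [7, 51, 52, 53], [51, 7, 54, 55], [8, 56, 57, 50], [56, 8, 53, 52], [54, 46, 9, 8], [9, 58, 48, 47], [58, 9, 49, 59], [11, 10, 55, 54], [45, 57, 10, 58], [52, 41, 58, 10], [47, 53, 11, 42], [50, 49, 42, 11], [12, 48, 43, 56], [48, 12, 51, 39], [14, 13, 50, 57], [46, 54, 13, 40], [53, 47, 40, 13], [41, 52, 14, 44], [55, 59, 44, 14], [15, 60, 61, 33], [60, 15, 36, 35], [37, 29, 16, 15], [16, 62, 31, 30], [62,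 16, 32, 63], [18, 17, 38, 37], [28, 61, 17, 62], [35, 24, 62, 17], [30, 36, 18, 25], [33, 32, 25, 18], [19, 31, 26, 60], [31, 19, 34, 22], [21, 20, 33, 61], [29, 37, 20, 23], [36, 30, 23, 20], [24, 35, 21, 27], [38, 63, 27, 21], [23, 22, 63, 32], [61, 28, 22, 34], [26, 25, 29, 28], [63, 38, 60, 26], [40, 39, 59, 49], [57, 45, 39, 51], [43, 42, 46, 45], [59, 55, 56, 43]]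

end CfsgLib.SchurMult.PSUSixTwo
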