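import Mathlib.Data.List.Basic

/-!
Tables for `PSU₆(2)`: the parabolic subgroup stabilising a totally isotropic plane. Field elements are coded
`0, 1, 2 = w, 3 = w + 1`; a group element is the list of the centres of transvections with that product.
-/

set_option autoImplicit false

namespace CfsgLib.SchurMult.PSUSixTwo

/-- The 21 isotropic points of a totally isotropic plane. -/
def points : List (List ℕ) :=
  [[0, 0, 0, 0, 1, 1], [0, 0, 1, 1, 0, 0], [0, 0, 1, 1, 1, 1], [0, 0, 1, 1, 2, 2], [0, 0, 1, 1, 3, 3], [1, 1, 0, 0, 0, 0], [1, 1, 0, 0, 1, 1], [1, 1, 0, 0, 2, 2], [1, 1, 0, 0, 3, 3], [1, 1, 1, 1, 0, 0], [1, 1, 1, 1, 1, 1], [1, 1, 1, 1, 2, 2], [1, 1, 1, 1, 3, 3], [1, 1, 2, 2, 0, 0], [1, 1, 2, 2, 1, 1], [1, 1, 2, 2, 2, 2], [1, 1, 2, 2, 3, 3], [1, 1, 3, 3, 0, 0], [1, 1, 3, 3, 1, 1], [1, 1, 3, 3, 2, 2], [1, 1, 3, 3, 3, 3]]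

/-- Generators of the stabiliser of the plane and of a complement: transvection words. -/
def gens : List (List (List ℕ)) :=
  [[[1, 1, 2, 3, 0, 0], [1, 1, 0, 0, 0, 0], [0, 0, 2, 3, 0, 0]], [[1, 1, 1, 2, 0, 0], [1, 1, 0, 0, 0, 0], [0, 0, 2, 3, 0, 0]], [[0, 0, 1, 1, 2, 3], [0, 0, 1, 1, 0, 0], [0, 0, 0, 0, 2, 3]], [[0, 0, 1, 1, 1, 2], [0, 0, 1, 1, 0, 0], [0, 0, 0, 0, 2, 3]], [[1, 0, 1, 0, 0, 0], [0, 1, 0, 1, 0, 0], [0, 0, 1, 0, 1, 0], [0, 0, 0, 1, 0, 1]]]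

/-- The action of the generators on the points. -/
def actT : List (List ℕ) :=
  [[0, 9, 10, 11, 12, 5, 6, 7, 8, 1, 2, 3, 4, 17, 19, 20, 18, 13, 16, 14, 15], [0, 17, 20, 18, 19, 5, 6, 7, 8, 13, 15, 16, 14, 9, 12, 10, 11, 1, 3, 4, 2], [2, 1, 0, 4, 3, 5, 10, 15, 20, 9, 6, 19, 16, 13, 18, 7, 12, 17, 14, 11, 8], [4, 1, 3, 2, 0, 5, 14, 19, 12, 9, 18, 15, 8, 13, 6, 11, 20, 17, 10, 7, 16], [5, 0, 6, 8, 7, 1, 9, 17, 13, 2, 10, 20, 15, 3, 11, 18, 16, 4, 12, 19, 14]]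

/-- Generator words moving the base point to each point. -/
def tree : List (List ℕ) :=
  [[4, 4], [4], [4, 0, 4], [4, 1, 0, 4], [4, 1, 4], [], [4, 4, 0, 4], [4, 4, 1, 4], [4, 4, 1, 0, 4], [0, 4], [0, 4, 0, 4], [0, 4, 1, 0, 4], [0, 4, 1, 4], [1, 0, 4], [4, 1, 4, 0, 4], [1, 0, 4, 0, 4], [3, 1, 4, 0, 4], [1, 4], [1, 4, 1, 0, 4], [1, 4, 1, 4], [1, 4, 0, 4]]

/-- Generators of odd order of the stabiliser of the base point. -/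
def stabT : List (List ℕ) :=
  [[2, 4, 2, 4, 3, 0, 4], [4, 3, 4, 2, 1, 4, 3]]

/-- Their action on the points. -/
def stabAct : List (List ℕ) :=
  [[2, 14, 11, 17, 8, 5, 10, 15, 20, 12, 18, 13, 7, 19, 6, 16, 9, 4, 1, 0, 3], [10, 11, 9, 12, 0, 5, 20, 15, 2, 3, 13, 19, 8, 18, 6, 1, 14, 16, 4, 7, 17]]

/-- The Schreier elements in the generators of the stabiliser. -/
def schreier : List (List (List ℕ)) :=
  [[[1, 1, 1, 0, 1, 1, 0, 0, 0, 1], [], [], [], [], [0, 0, 0, 1, 0, 1, 0, 0, 0], [0, 0, 0, 1, 0, 0, 1, 0, 1, 0, 0], [0, 0, 0, 1, 0, 0, 1, 1, 1, 0, 1], [0, 0, 0, 1, 0, 0, 1, 0, 0, 1, 1], [], [], [], [], [], [0, 0, 0, 1, 0, 0, 0, 0], [], [1, 1, 1, 0, 1, 1, 0, 0, 0, 1], [], [1, 1, 1, 0, 1, 1, 0, 0, 0, 1], [0, 1, 1, 1, 1, 0, 0], []], [[0, 1, 1, 1, 0, 0, 1, 0, 0, 0], [], [], [], [], [1, 1, 1, 0, 1, 0, 1, 1, 1], [0, 1, 0, 0, 0, 1, 1,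 0, 1, 1, 1], [1, 1, 0, 0, 1, 0, 0, 1, 0, 0, 0], [0, 0, 1, 0, 1, 0, 0, 1, 0, 0, 0], [], [], [1, 1, 1, 0, 1, 1, 0, 0, 0, 1], [0, 1, 1, 1, 1, 0, 0], [], [0, 0, 0, 1, 0, 0, 0, 0], [], [1, 1, 1, 0, 1, 1, 0, 0, 0, 1], [], [], [], []], [[], [0, 0, 0, 1, 0, 1, 0, 0, 0], [], [], [], [1, 1, 1, 0, 1, 1, 0, 0, 0, 1], [1, 0, 1, 1, 1, 0, 0, 0], [1, 0, 1, 1, 1, 1, 0], [1, 0, 1, 0, 0, 0, 1], [0, 0, 0, 1, 0, 0, 1, 0, 1, 0, 0], [0, 0, 0, 1, 1, 1, 0, 1, 1], [0, 0, 1, 0, 1, 1, 0, 1, 0, 1], [0, 0, 1, 0, 1, 1, 0, 1, 0, 1], [0, 0, 0, 1, 0, 0, 1, 0, 0, 1, 1], [1, 1, 1, 0, 1, 0], [1, 1, 1, 1, 0, 1, 1, 1], [0, 0, 1, 0, 1, 1, 0, 1, 0, 1], [0, 0, 0, 1, 0, 0, 1, 1, 1, 0, 1], [1, 0, 1, 0, 1, 1, 1], [0, 0, 1, 0, 1, 1, 0, 1, 0, 1], [0, 0, 0, 1, 0, 0, 1, 1, 1, 1]], [[], [1, 1, 1, 0, 1, 0, 1, 1, 1], [], [], [], [0, 1, 1, 1, 0, 0, 1, 0, 0, 0], [], [0, 0, 1, 0,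 0, 0, 1, 1, 1], [0, 0, 0, 0, 1, 1, 0, 1, 1, 1], [0, 1, 0, 0, 0, 1, 1, 0, 1, 1, 1], [0, 0, 1, 0, 1, 1, 0, 1, 0, 1], [0, 1, 1, 1, 0, 0, 1, 0, 0, 0], [0, 1, 1, 1, 0, 1, 0], [0, 0, 1, 0, 1, 0, 0, 1, 0, 0, 0], [], [0, 1, 1, 1, 0, 0, 1, 0, 0, 0], [], [1, 1, 0, 0, 1, 0, 0, 1, 0, 0, 0], [0, 0, 1, 0, 1, 1, 0, 1, 0, 1], [1, 1, 1, 0, 0, 0, 1, 0], []], [[], [], [], [], [], [], [], [], [], [], [1, 0, 1, 1, 1, 0, 0, 0], [1, 0, 1, 0, 0, 0, 1], [1, 0, 1, 1, 1, 1, 0], [], [0, 0, 0, 1, 0, 0, 1, 1, 1, 1], [1, 1, 1, 0, 1, 0], [0, 1, 0, 0, 1, 0, 0, 0, 0], [], [0, 0, 0, 0, 1, 1, 0, 1, 1, 1], [0, 0, 1, 0, 0, 0, 1, 1, 1], []]]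

/-- Stabiliser words moving the point 0 to each point other than the base point. -/
def pairTree : List (List ℕ) :=
  [[], [0, 0, 1], [0], [1, 1, 0], [1, 0, 1], [], [0, 0, 0, 0, 1], [1, 1, 0, 0], [1, 0, 1, 0], [1, 0], [1], [0, 0], [0, 1, 0], [1, 1], [0, 0, 0, 1], [0, 1, 1, 0, 0], [1, 0, 1, 1, 0], [0, 1, 1, 0], [0, 1], [1, 0, 0], [0, 1, 0, 1, 0]]

/-- The lines of the plane. -/
def lines : List (List ℕ) :=
  [[0, 1, 2, 3, 4], [0, 5, 6, 7, 8], [0, 9, 10, 11, 12], [0, 13, 14, 15, 16], [0, 17, 18, 19, 20], [1, 5, 9, 13, 17], [1, 6, 10, 14, 18], [1, 7, 11, 15, 19], [1, 8, 12, 16, 20], [2, 5, 10, 15, 20], [2, 6, 9, 16, 19], [2, 7, 12, 13, 18], [2, 8, 11, 14, 17], [3, 5, 11, 16, 18], [3, 6, 12, 15, 17], [3, 7, 9, 14, 20], [3, 8, 10, 13, 19], [4, 5, 12, 14, 19], [4, 6, 11, 13, 20], [4, 7, 10, 16, 17], [4, 8, 9, 15, 18]]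

/-- The action of the generators on the lines. -/
def lineAct : List (List ℕ) :=
  [[2, 1, 0, 4, 3, 5, 10, 15, 20, 9, 6, 19, 16, 13, 18, 7, 12, 17, 14, 11, 8], [4, 1, 3, 2, 0, 5, 14, 19, 12, 9, 18, 15, 8, 13, 6, 11, 20, 17, 10, 7, 16], [0, 9, 10, 11, 12, 5, 6, 7, 8, 1, 2, 3, 4, 17, 19, 20, 18, 13, 16, 14, 15], [0, 17, 20, 18, 19, 5, 6, 7, 8, 13, 15, 16, 14, 9, 12, 10, 11, 1, 3, 4, 2], [1, 5, 9, 13, 17, 0, 2, 4, 3, 6, 10, 14, 18, 8, 20, 12, 16, 7, 15, 19, 11]]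

/-- Generator words moving the first line to each line. -/
def lineTree : List (List ℕ) :=
  [[], [4], [0], [1, 0], [1], [4, 4], [0, 2, 0], [1, 3, 1], [0, 3, 0], [4, 0], [2, 0], [2, 1, 0], [2, 1], [4, 1, 0], [3, 2, 1], [3, 2, 0], [1, 3, 0], [4, 1], [3, 1, 0], [3, 1], [3, 0]]

/-- Three hyperovals, one in each class. -/
def ovals : List (List ℕ) :=
  [[0, 1, 5, 10, 16, 19], [0, 1, 5, 11, 14, 20], [0, 1, 5, 12, 15, 18]]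

/-- The third hyperoval is a sum of lines and the first two. -/
def thirdOval : List ℕ :=
  [2, 3, 4, 5, 21, 22]

/-- Points whose transvections form a basis. -/
def pivots : List ℕ :=
  [0, 1, 2, 3, 5, 6, 7, 9, 13]

/-- For each point, pivots with the same product modulo the code, and the code words adding up to the difference. -/
def reduce : List (List ℕ × List ℕ) :=
  [([0], []), ([1], []), ([2], []), ([3], []), ([0, 1, 2, 3], [0]), ([5], []), ([6], []), ([7], []), ([0, 5, 6, 7], [1]), ([9], []), ([0, 1, 2, 5, 6, 9], [3, 4, 5, 6, 9, 21]), ([0, 1, 3, 5, 7, 9], [3, 4, 5, 7, 13, 22]), ([0, 2, 3, 6, 7, 9], [2, 6, 7, 9, 13, 21, 22]), ([13], []), ([2, 3, 5, 6, 13], [3, 6, 9, 13, 22]), ([0, 1, 2, 5, 7, 13], [3, 7, 9, 21, 22]), ([1, 3, 6, 7, 13], [3, 6, 7, 13, 21]), ([1, 5, 9, 13], [5]), ([0, 3, 6, 9, 13], [4, 5, 6, 13, 21, 22]),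 ([1, 2, 3, 7, 9, 13], [4, 5, 7, 9, 13, 21]), ([2, 5, 6, 7, 9, 13], [4, 5, 6, 7, 9, 22])]

/-- The action of the diagonal automorphism on the points. -/
def diag : List ℕ :=
  [0, 1, 2, 3, 4, 5, 8, 6, 7, 17, 20, 18, 19, 9, 12, 10, 11, 13, 16, 14, 15]

/-- The generators twisted by the diagonal automorphism. -/
def twist : List (List ℕ) :=
  [[1], [0, 1], [2], [3], [0, 3, 4, 2, 0, 4, 3, 0, 4, 3, 1, 2]]

/-- The generators twisted by the inverse of the diagonal automorphism. -/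
def twistInv : List (List ℕ) :=
  [[0, 1], [0], [2], [3], [0, 3, 1, 4, 2, 1, 4, 2, 0, 3, 4, 2]]

/-- An element moving the plane to a neighbouring one, exchanging two coordinates. -/
def swapW : List (List ℕ) :=
  [[0, 0, 3, 2, 0, 0], [0, 0, 0, 0, 3, 2]]

/-- An element moving the plane to a neighbouring one, exchanging one coordinate. -/
def swapW₂ : List (List ℕ) :=
  [[0, 0, 0, 0, 3, 2]]

/-- The first root elements in the first neighbouring plane. -/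
def upperX : List (List ℕ) :=
  [[13, 17], [9, 13]]

/-- The second root elements in the second neighbouring plane. -/
def upperY : List (List ℕ) :=
  [[3, 4], [2, 3]]

/-- The second root elements as words after moving by the first exchange. -/
def swapY : List (List ℕ) :=
  [[0, 4, 2, 4, 2, 0, 4], [1, 4, 3, 4, 3, 1, 4]]

/-- The central root elements. -/
def centreW : List (List (List ℕ)) :=
  [[], [[1, 1, 0, 0, 2, 3], [1, 1, 0, 0, 0, 0], [0, 0, 0, 0, 2, 3]], [[1, 1, 0, 0, 1, 2], [1, 1, 0, 0, 0, 0], [0, 0, 0, 0, 2, 3]], [[1, 1, 0, 0, 3, 1], [1, 1, 0, 0, 0, 0], [0, 0, 0, 0, 2, 3]]]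

/-- The central root elements in the second neighbouring plane. -/
def centreU : List (List ℕ) :=
  [[], [7, 8], [6, 7], [6, 8]]

end CfsgLib.SchurMult.PSUSixTwo
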